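import Groth.Agent.AlgGrp1.AffineCrit
import Groth.Agent.AlgGrp1.Sub
import Groth.Agent.Agf.SmoothRed
import Groth.Agent.GrpschAbsch.NeutralSet
import Groth.Agent.AbvarAmple.ClosedCover

/-!
An extension by a kernel contained in a smooth (resp. connected) subscheme, of a smooth (resp. connected)
group over a field, is smooth (resp. connected).
-/

set_option autoImplicit false

universe u

open CategoryTheory CategoryTheory.Limits MonoidalCategory CartesianMonoidalCategory MonObj GrpObj AlgebraicGeometry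

noncomputable section

namespace Groth.Sga3.InvImageSmooth

variable {k : Type u} [Field k]
  {E H C : Over (Spec (CommRingCat.of k))} [GrpObj E] [GrpObj H]
  [LocallyOfFiniteType E.hom] [LocallyOfFiniteType H.hom]

theorem smooth_of_kernel_le [IsAlgClosed k] (u : E ⟶ H) [IsMonHom u] [Flat u.left] [Surjective u.left]
    [Smooth H.hom] [Smooth C.hom] (c : C ⟶ E)
    (key : ∀ {Z : Over (Spec (CommRingCat.of k))} (z : Z ⟶ E), z ≫ u = 1 → ∃ d : Z ⟶ C, d ≫ c = z) :
    Smooth E.hom := by
  obtain ⟨R, _, r, _, _, _, _, _⟩ := Groth.AlgGrp1.exists_reduced_subgroup_lft E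
  haveI : IsReduced C.left := Groth.Agf.isReduced_of_smooth C.hom
  haveI : IsReduced H.left := Groth.Agf.isReduced_of_smooth H.hom
  obtain ⟨c', hc'⟩ := Groth.AlgGrp1.exists_factor_of_range_subset r c
    (fun x _ => r.left.surjective x)
  haveI : Surjective (r ≫ u).left := inferInstanceAs (Surjective (r.left ≫ u.left))
  haveI : Flat (r ≫ u).left := Groth.GrpschAbsch.NeutralSet.flat_of_component_le_image R (r ≫ u)
    (fun y _ => (r ≫ u).left.surjective y)
  let P : Over (Spec (CommRingCat.of k)) := Over.mk (pullback.fst (r ≫ u).left u.left ≫ R.hom)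
  let a : P ⟶ R := Over.homMk (pullback.fst (r ≫ u).left u.left) rfl
  let b : P ⟶ E := Over.homMk (pullback.snd (r ≫ u).left u.left) (by
    show pullback.snd _ _ ≫ E.hom = pullback.fst _ _ ≫ R.hom
    rw [← Over.w u, ← Category.assoc, ← pullback.condition, Category.assoc, Over.w (r ≫ u)])
  have hab : (a ≫ r) ≫ u = b ≫ u := Over.OverMorphism.ext ((Category.assoc _ _ _).trans pullback.condition)
  obtain ⟨d, hd⟩ := key ((a ≫ r)⁻¹ * b) (by rw [MonObj.mul_comp, GrpObj.inv_comp, hab, inv_mul_cancel])
  have hb : (a * (d ≫ c')) ≫ r = b := by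
    rw [MonObj.mul_comp, Category.assoc, hc', hd, mul_inv_cancel_left]
  haveI : IsIso r.left := Groth.AbvarAmple.isIso_of_flat_cover r.left fun t => by
    obtain ⟨p, hp⟩ := (pullback.snd (r ≫ u).left u.left).surjective t
    exact ⟨_, pullback.snd (r ≫ u).left u.left, (a * (d ≫ c')).left, p, inferInstance,
      congrArg CommaMorphism.left hb, hp⟩
  rw [show E.hom = inv r.left ≫ R.hom by rw [← Over.w r, IsIso.inv_hom_id_assoc]]
  infer_instance

theorem connectedSpace_of_kernel_le (u : E ⟶ H) [IsMonHom u] [Flat u.left] [Surjective u.left]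
    [ConnectedSpace H.left] [ConnectedSpace C.left] (c : C ⟶ E)
    (key : ∀ {Z : Over (Spec (CommRingCat.of k))} (z : Z ⟶ E), z ≫ u = 1 → ∃ d : Z ⟶ C, d ≫ c = z) :
    ConnectedSpace E.left := by
  obtain ⟨E₀, _, i, _, _, hi, -⟩ := Groth.GrpschAbsch.NeutralSet.exists_neutral_openSubgroup E
  let e : E.left := η[E].left (IsLocalRing.closedPoint k)
  have factor : ∀ {Z : Over (Spec (CommRingCat.of k))} (g : Z ⟶ E),
      Set.range g.left ⊆ connectedComponent e → ∃ g' : Z ⟶ E₀, g' ≫ i = g := fun {Z} g hg =>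
    ⟨Over.homMk (IsOpenImmersion.lift i.left g.left (hg.trans hi.ge))
      (by rw [← Over.w i, IsOpenImmersion.lift_fac_assoc, Over.w g]),
      Over.OverMorphism.ext (IsOpenImmersion.lift_fac _ _ _)⟩
  have hc : Set.range c.left ⊆ connectedComponent e := by
    obtain ⟨d, hd⟩ := key (η[E]) (by rw [IsMonHom.one_hom, Hom.one_def, toUnit_unique (toUnit _) (𝟙 _),
      Category.id_comp])
    refine (isPreconnected_range c.left.continuous).subset_connectedComponent
      ⟨d.left (IsLocalRing.closedPoint k), ?_⟩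
    exact congr(($hd).left.base (IsLocalRing.closedPoint k))
  have := Groth.AlgGrp1.lfp_left u
  let U := connectedComponent e
  have hU : IsOpen U := Groth.GrpschAbsch.NeutralSet.isOpen_component E e
  have hdisj : Disjoint (u.left '' U) (u.left '' Uᶜ) := by
    rw [Set.disjoint_left]
    rintro _ ⟨y, hy, rfl⟩ ⟨x, hx, hxy⟩
    obtain ⟨p, hp₁, hp₂⟩ := Scheme.Pullback.exists_preimage_pullback (f := u.left) (g := u.left) y x hxy.symm
    let q := (pullback u.left u.left).fromSpecResidueField p
    let Z : Over (Spec (CommRingCat.of k)) := Over.mk (q ≫ pullback.fst u.left u.left ≫ E.hom)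
    let a : Z ⟶ E := Over.homMk (q ≫ pullback.fst u.left u.left) (Category.assoc _ _ _)
    let b : Z ⟶ E := Over.homMk (q ≫ pullback.snd u.left u.left) (by
      show (q ≫ _) ≫ E.hom = q ≫ pullback.fst u.left u.left ≫ E.hom
      rw [Category.assoc, ← Over.w u, pullback.condition_assoc])
    have hab : a ≫ u = b ≫ u := Over.OverMorphism.ext (by
      show (q ≫ _) ≫ u.left = (q ≫ _) ≫ u.left
      rw [Category.assoc, Category.assoc, pullback.condition])
    obtain ⟨d, hd⟩ := key (a⁻¹ * b) (by rw [MonObj.mul_comp, GrpObj.inv_comp, hab, inv_mul_cancel])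
    have hpt : ∀ (w : pullback u.left u.left ⟶ E.left) (z : Z.left), (q ≫ w) z = w p := fun w z =>
      (Scheme.Hom.comp_apply _ _ _).trans (congrArg w (Scheme.fromSpecResidueField_apply _ _))
    obtain ⟨a', ha⟩ := factor a (by
      rintro _ ⟨z, rfl⟩
      exact ((hpt _ z).trans hp₁).symm ▸ hy)
    obtain ⟨g', hg⟩ := factor (d ≫ c) (by
      rintro _ ⟨z, rfl⟩
      exact hc ⟨d.left z, (Scheme.Hom.comp_apply _ _ _).symm⟩)
    have hb : (a' * g') ≫ i = b := by rw [MonObj.mul_comp, ha, hg, hd, mul_inv_cancel_left]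
    refine hx (hi.le ?_)
    let z : Z.left := IsLocalRing.closedPoint _
    exact ⟨(a' * g').left z, ((Scheme.Hom.comp_apply _ _ _).symm.trans
      congr(($hb).left.base z)).trans ((hpt _ z).trans hp₂)⟩
  have hUne : (u.left '' U).Nonempty := ⟨_, e, mem_connectedComponent, rfl⟩
  have hall : u.left '' U = Set.univ :=
    IsClopen.eq_univ ⟨by
      rw [show u.left '' U = (u.left '' Uᶜ)ᶜ from
        (IsCompl.compl_eq (IsCompl.of_eq (Set.disjoint_iff_inter_eq_empty.1 hdisj.symm) (by
          show u.left '' Uᶜ ∪ u.left '' U = Set.univ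
          rw [← Set.image_union, Set.compl_union_self, Set.image_univ, u.left.surjective.range_eq]))).symm]
      exact (u.left.isOpenMap _ isClosed_connectedComponent.isOpen_compl).isClosed_compl,
      u.left.isOpenMap _ hU⟩ hUne
  have huniv : U = Set.univ := Set.eq_univ_of_forall fun x => by
    by_contra hx
    exact hdisj.notMem_of_mem_left (hall.ge (Set.mem_univ (u.left x))) ⟨x, hx, rfl⟩
  exact connectedSpace_iff_connectedComponent.2 ⟨e, huniv⟩

end Groth.Sga3.InvImageSmooth
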